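import Cfsg.Agent.Lib.POmegaClass.GraphSplit
import Cfsg.Agent.Lib.POmegaField.MinusThms

/-!
# Involutory graph-field automorphisms of `PΩ⁺`
-/

set_option autoImplicit false

namespace Cfsg.Agent.Lib.POmegaClass

open QuadraticMap Matrix POmegaAut POmegaField

variable {F : Type*} [Field F] [Fintype F] {p f m : ℕ} [Fact p.Prime]

/-- graph-field automorphisms, in a presentation `φ` of the plus form -/
def IsGraphFieldOf (m : ℕ) {F : Type*} [Field F] (φ : (Fin m ⊕ Fin m → F) → F)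
    (x : MulAut (Cfsg.POmega F φ)) : Prop :=
  ∃ (α γ φ' : MulAut (Cfsg.POmega F φ)) (σ : F ≃+* F) (v : Fin m ⊕ Fin m → F) (r : GL (Fin m ⊕ Fin m) F),
    σ ≠ RingEquiv.refl F ∧ φ v ≠ 0 ∧ (∀ i, σ (v i) = v i) ∧
    (r : Matrix (Fin m ⊕ Fin m) (Fin m ⊕ Fin m) F) = Cfsg.reflectionMatrix φ v ∧
    Cfsg.IsInducedBySemilinearPOmega φ r (RingEquiv.refl F) γ ∧
    Cfsg.IsFieldAutPOmegaOf φ σ φ' ∧ α * x * α⁻¹ = γ * φ'

theorem exists_setup_graph (hm : 5 ≤ m) {x : MulAut (Cfsg.POmega F ⇑(Classical.plusForm m F))}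
    (hx : IsGraphFieldOf m ⇑(Classical.plusForm m F) x) (hx2 : orderOf x = 2) :
    ∃ (σ : F ≃+* F) (g : GO (Classical.plusForm m F)),
      x = simAut g * fieldAut σ (sigmaForm_plus σ) ∧ orderOf σ = 2 ∧ plusChar m F g = -1 := by
  have S := setting_plus (F := F) hm
  obtain ⟨α, γ, φ', σ, v, rM, hσ, hv, -, hrM, hγ, hφ, h⟩ := hx
  rw [isFieldAutOf_iff σ (sigmaForm_plus σ)] at hφ
  have hrg : rM = (isoSim (Orth.refl (Classical.plusForm m F) v hv)).1 :=
    Units.ext (hrM.trans (Orth.refl_coe hv).symm)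
  subst hrg
  have hα : α * x * α⁻¹ = simAut (isoSim (Orth.refl (Classical.plusForm m F) v hv))
      * fieldAut σ (sigmaForm_plus σ) := by
    rw [h, hφ, (isSimilarityInduced_iff γ (isoSim (Orth.refl (Classical.plusForm m F) v hv))).1 hγ]
  obtain ⟨g, hg, hχ⟩ := exists_form_plus hm _ hα
  refine ⟨σ, g, hg, ?_, hχ.trans (plusChar_refl v hv)⟩
  have h1 : orderOf σ ∣ 2 := orderOf_dvd_of_pow_eq_one
    (sig_pow_eq_one S _ g (by rw [← hg, ← hx2]; exact pow_orderOf_eq_one x))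
  exact ((Nat.dvd_prime Nat.prime_two).1 h1).resolve_left fun e => hσ (orderOf_eq_one_iff.1 e)

omit [Fintype F] in
/-- only one field automorphism of order two -/
theorem involution_unique [Fintype F] (hF : Fintype.card F = p ^ f) {σ τ : F ≃+* F} (h1 : orderOf σ = 2)
    (h2 : orderOf τ = 2) : σ = τ := by
  obtain ⟨ψ⟩ := Similarity.nonempty_fieldAut_equiv hF
  haveI : NeZero f := ⟨fun h => by
    have := Fintype.one_lt_card (α := F)
    rw [hF, h, pow_zero] at this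
    exact lt_irrefl 1 this⟩
  have key : ∀ ρ : F ≃+* F, orderOf ρ = 2 → 2 * (Multiplicative.toAdd (ψ ρ)).val = f := by
    intro ρ hρ
    have hne : Multiplicative.toAdd (ψ ρ) ≠ 0 := fun h => by
      have : ψ ρ = 1 := h
      rw [MulEquiv.map_eq_one_iff] at this
      rw [this, orderOf_one] at hρ
      omega
    have h2 : (((2 * (Multiplicative.toAdd (ψ ρ)).val : ℕ) : ZMod f)) = 0 := by
      have h3 : ψ ρ ^ 2 = 1 := by rw [← map_pow, ← hρ, pow_orderOf_eq_one, map_one]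
      rw [Nat.cast_mul, ZMod.natCast_zmod_val, ← nsmul_eq_mul, ← toAdd_pow, h3]
      rfl
    obtain ⟨k, hk⟩ := (ZMod.natCast_eq_zero_iff _ _).1 h2
    have hlt := ZMod.val_lt (Multiplicative.toAdd (ψ ρ))
    have hpos : 0 < (Multiplicative.toAdd (ψ ρ)).val :=
      Nat.pos_of_ne_zero fun h => hne (by rwa [ZMod.val_eq_zero] at h)
    have hk2 : k < 2 := by
      by_contra hk2
      have := Nat.mul_le_mul_left f (Nat.le_of_not_lt hk2)
      omega
    interval_cases k <;> omega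
  refine ψ.injective (Multiplicative.toAdd.injective (ZMod.val_injective f ?_))
  have := key σ h1
  have := key τ h2
  omega

/-- the statements, in any presentation -/
theorem graph_field_thm (hF : Fintype.card F = p ^ f) (hm : 5 ≤ m) (φ : (Fin m ⊕ Fin m → F) → F)
    (hφ : φ = ⇑(Classical.plusForm m F)) (x : MulAut (Cfsg.POmega F φ)) (hx : IsGraphFieldOf m φ x)
    (hx2 : orderOf x = 2) (F₀ : Type*) [Field F₀] [Fintype F₀] (hF₀ : Fintype.card F₀ = p ^ (f / 2)) :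
    Even f ∧ (∀ y : MulAut (Cfsg.POmega F φ), IsGraphFieldOf m φ y → orderOf y = 2 →
      Cfsg.IsConjUnder (plusInd m φ) x y) ∧
    (∃ a₀ b₀ : F₀, (∀ z₁ z₂ : F₀, z₁ ^ 2 + a₀ * z₁ * z₂ + b₀ * z₂ ^ 2 = 0 → z₁ = 0 ∧ z₂ = 0) ∧
      ∀ φ₀, φ₀ = ⇑(Classical.minusForm (m - 1) F₀ a₀ b₀) →
        Nonempty (↥(plusInd m φ ⊓ Subgroup.centralizer {x}) ≃* ↥(minusInd (m - 1) a₀ b₀ φ₀))) ∧
    (p = 2 → Cfsg.splitClassCount (plusInd m φ) (Cfsg.Inn (Cfsg.POmega F φ)) x = 1) ∧
    ((p ≠ 2 ∧ Odd m ∧ p ^ (f / 2) % 4 = 1) →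
      Cfsg.splitClassCount (plusInd m φ) (Cfsg.Inn (Cfsg.POmega F φ)) x = 4) ∧
    ((p ≠ 2 ∧ ¬ (Odd m ∧ p ^ (f / 2) % 4 = 1)) →
      Cfsg.splitClassCount (plusInd m φ) (Cfsg.Inn (Cfsg.POmega F φ)) x = 2) := by
  subst hφ
  have S := setting_plus (F := F) hm
  obtain ⟨σ, g, hg, hσ, hgχ⟩ := exists_setup_graph hm hx hx2
  obtain ⟨hdvd, hfix⟩ := fixed_params hF hσ
  obtain ⟨j, hj⟩ := exists_isFixedField σ F₀ (hF₀.trans hfix.symm)
  have hq : Fintype.card F = Fintype.card F₀ ^ 2 := by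
    rw [hF, hF₀, ← pow_mul, Nat.div_mul_cancel hdvd]
  have hm0 : 0 < m := by omega
  set v : Fin m ⊕ Fin m → F₀ := Pi.single (.inl ⟨0, hm0⟩) 1 + Pi.single (.inr ⟨0, hm0⟩) 1 with hvdef
  have hv : Classical.plusForm m F₀ v ≠ 0 := by
    rw [hvdef, Classical.coe_plusForm]
    simp [Cfsg.quadFormPlus, Pi.single_apply]
  set R := rSim (F := F) j v hv
  have hp2 : (orderOf σ).Prime := hσ ▸ Nat.prime_two
  obtain ⟨-, k, hk, hxk⟩ := (classify_plus hm hj hp2 g
    (by rw [← hg, hσ, ← hx2, pow_orderOf_eq_one]) v hv).2 hgχ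
  rw [← hg] at hxk
  have hmem : simAut k ∈ (plusChar m F).ker.map simAut := ⟨k, hk, rfl⟩
  refine ⟨even_iff_two_dvd.2 hdvd, ?_, ?_, ?_⟩
  · intro y hy hy2
    obtain ⟨τ, g', hg', hτ, hgχ'⟩ := exists_setup_graph hm hy hy2
    obtain rfl := involution_unique hF hσ hτ
    obtain ⟨-, k', hk', hyk⟩ := (classify_plus hm hj hp2 g'
      (by rw [← hg', hσ, ← hy2, pow_orderOf_eq_one]) v hv).2 hgχ'
    rw [← hg'] at hyk
    rw [plusInd, inndiag_plus]
    refine ⟨simAut (k' * k⁻¹), ⟨_, mul_mem hk' (inv_mem hk), rfl⟩, ?_⟩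
    rw [hxk, hyk, map_mul, map_inv]
    group
  · obtain ⟨μ, a₀, b₀, E, hab, hfixE⟩ := exists_minus_twist hm hj hσ v hv
    refine ⟨a₀, b₀, hab, ?_⟩
    rintro _ rfl
    obtain ⟨χ₀, -, -, -, -, hχ₀⟩ := exists_classHom (m := m - 1) hab
    letI := j.toAlgebra
    have hfr : Module.finrank F₀ F = 2 := by
      have h1 := Module.card_eq_pow_finrank (K := F₀) (V := F)
      rw [hq] at h1
      exact (Nat.pow_right_injective (Fintype.one_lt_card (α := F₀)) h1).symm
    obtain ⟨r, hr⟩ := exists_root_of_even hab (K := F) (by rw [hfr]; exact even_two)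
    have hu := (plusChar_conjHom (by omega) j hab E hr).unique hab (by omega) hχ₀
    rw [plusInd, minusInd, inndiag_plus, inndiag_minus hab (by omega) hχ₀, hxk]
    obtain ⟨e1⟩ := nonempty_centraliser_conj hmem (simAut R * fieldAut σ (sigmaForm_plus σ))
    obtain ⟨e2⟩ := nonempty_centraliser_twisted S (setting_minus hab (show 3 ≤ m - 1 by omega))
      (sigmaForm_plus σ) hj (isRestriction_minus (m := m - 1) j a₀ b₀) E
      (SPair.scalarSim (Q := Classical.plusForm m F) μ * R) hfixE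
      (fun u => ⟨liftSim (isRestriction_plus σ.toRingHom) u, rfl⟩) (D := (plusChar m F).ker) (D₀ := χ₀.ker)
      (fun u => by rw [MonoidHom.mem_ker, MonoidHom.mem_ker, ← hu]; rfl) (fun c => plusChar_scalarSim c)
    rw [simAut_scalar_mul] at e2
    exact ⟨e1.symm.trans e2⟩
  · have hcount : Cfsg.splitClassCount (plusInd m ⇑(Classical.plusForm m F))
        (Cfsg.Inn (Cfsg.POmega F ⇑(Classical.plusForm m F))) x
        = Cfsg.splitClassCount ((plusChar m F).ker.map simAut) (Cfsg.Inn (Cfsg.POmega F ⇑(Classical.plusForm m F)))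
          (simAut R * fieldAut σ (sigmaForm_plus σ)) := by
      rw [plusInd, inndiag_plus, hxk, splitClassCount_of_mem hmem]
    refine ⟨?_, ?_, ?_⟩
    · rintro rfl
      haveI : CharP F 2 := charP_of_card_eq_prime_pow hF
      rw [hcount, split_even hm]
    all_goals
      intro hcase
      have hodd : Odd (Fintype.card F) := by
        rw [hF]; exact ((Fact.out : p.Prime).eq_two_or_odd'.resolve_left hcase.1).pow
      rw [hcount, split_odd hm hj hσ hq hodd v hv hm0 hvdef, hF₀]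
    · exact if_pos hcase.2
    · exact if_neg hcase.2

end Cfsg.Agent.Lib.POmegaClass
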